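import Cfsg.Agent.S5405
import Cfsg.Prelude.Def_Solvable

/-!
The isometry group of the minus form in dimension six over two elements: generated by its transvections, with
trivial largest normal two-subgroup.
-/

set_option autoImplicit false
set_option linter.style.haveILetI false

namespace Cfsg.Agent.Lib.FischerOuter91

open Cfsg.Agent.Lib.ThreeTranspositions.OrthCocycle
open scoped Matrix

/-- The minus form in dimension six. -/
abbrev Qm : ((Fin 2 ⊕ Fin 2) ⊕ Fin 2 → ZMod 2) → ZMod 2 := Cfsg.quadFormMinus 2 (ZMod 2) 1 1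

/-- Its isometry group. -/
abbrev G6 : Subgroup (GL ((Fin 2 ⊕ Fin 2) ⊕ Fin 2) (ZMod 2)) := Cfsg.isometryGroup (ZMod 2) Qm

/-- A subgroup with all transvections is everything. -/
theorem eq_top_of_refl (H : Subgroup ↥G6)
    (h : ∀ v, Qm v = 1 → ∃ g ∈ H, ∀ x, act g x = x + (Qm (x + v) + Qm x + 1) • v) : H = ⊤ := by
  rw [eq_top_iff, ← Cfsg.Agent.S5405.genM2, Subgroup.closure_le]
  rintro _ ⟨u, hu, rfl⟩
  obtain ⟨g, hg, hgx⟩ := h u hu
  have e : g = refl Cfsg.Agent.S5405.hBM2 u hu := act_ext fun x => by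
    rw [act_refl Cfsg.Agent.S5405.hBM2 hu]
    show _ = x + (Qm (x + u) + Qm x + Qm u) • u
    rw [show Qm u = 1 from hu]
    exact hgx x
  exact e ▸ hg

set_option synthInstance.maxSize 512 in
open Cfsg.Agent.S5405 (vec idxM2 qM2 modelM2 bn hBM2) in
/-- A nonzero subspace kept by all transvections is everything. -/
theorem invariant_top (W : AddSubgroup (V ((Fin 2 ⊕ Fin 2) ⊕ Fin 2))) {x : V ((Fin 2 ⊕ Fin 2) ⊕ Fin 2)}
    (hx : x ∈ W) (hne : x ≠ 0) (hW : ∀ g : ↥G6, ∀ w ∈ W, act g w ∈ W) : ∀ y, y ∈ W := by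
  have step : ∀ a b : ℕ, qM2 b = 1 → bn qM2 a b = 1 → vec idxM2 a ∈ W → vec idxM2 b ∈ W := by
    intro a b hb hab ha
    have hb' : Qm (vec idxM2 b) = 1 := (modelM2.eval b).trans hb
    have h := hW (refl hBM2 _ hb') _ ha
    rw [act_refl hBM2 hb', modelM2.polar, hab, one_smul] at h
    have h2 := W.add_mem (W.neg_mem ha) h
    rwa [neg_add_cancel_left] at h2
  have c1 : ∀ k < 64, k = 0 ∨ ∃ v < 64, qM2 v = 1 ∧ bn qM2 k v = 1 := by decide +kernel
  have c2 : ∀ v < 64, ∀ v' < 64, qM2 v = 1 → qM2 v' = 1 →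
      v = v' ∨ bn qM2 v v' = 1 ∨ ∃ w < 64, qM2 w = 1 ∧ bn qM2 v w = 1 ∧ bn qM2 w v' = 1 := by decide +kernel
  have c3 : ∀ k < 64, ∃ a < 64, ∃ b < 64, qM2 a = 1 ∧ qM2 b = 1 ∧ (Nat.xor a b = k ∨ a = k) := by decide +kernel
  obtain ⟨k, hk, rfl⟩ := modelM2.surj x
  obtain ⟨v, hv, hqv, hkv⟩ := (c1 k hk).resolve_left fun h => hne (by
    subst h; funext i; simp [vec, Cfsg.Agent.S5405.bit])
  have hvW := step k v hqv hkv hx
  have hall : ∀ v' < 64, qM2 v' = 1 → vec idxM2 v' ∈ W := by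
    intro v' hv' hq'
    rcases c2 v hv v' hv' hqv hq' with rfl | h | ⟨w, -, hqw, h1, h2⟩
    · exact hvW
    · exact step v v' hq' h hvW
    · exact step w v' hq' h2 (step v w hqw h1 hvW)
  intro y
  obtain ⟨j, hj, rfl⟩ := modelM2.surj y
  obtain ⟨a, ha, b, hb, hqa, hqb, h | h⟩ := c3 j hj
  · rw [← h, Cfsg.Agent.S5405.vec_add]
    exact W.add_mem (hall a ha hqa) (hall b hb hqb)
  · exact h ▸ hall a ha hqa

theorem normal_two_eq_bot (N : Subgroup ↥G6) [hN : N.Normal] (hp : IsPGroup 2 ↥N) : N = ⊥ := by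
  classical
  haveI : Fact (Nat.Prime 2) := ⟨Nat.prime_two⟩
  letI : MulAction ↥N (V ((Fin 2 ⊕ Fin 2) ⊕ Fin 2)) :=
    { smul := fun n x => act n.1 x
      one_smul := fun x => act_one x
      mul_smul := fun n m x => act_mul n.1 m.1 x }
  have hzero : (0 : V ((Fin 2 ⊕ Fin 2) ⊕ Fin 2)) ∈ MulAction.fixedPoints ↥N (V ((Fin 2 ⊕ Fin 2) ⊕ Fin 2)) :=
    fun n => show act n.1 0 = 0 from Matrix.mulVec_zero _
  obtain ⟨x, hx, hne⟩ : ∃ x, x ∈ MulAction.fixedPoints ↥N (V ((Fin 2 ⊕ Fin 2) ⊕ Fin 2)) ∧ (0 : V _) ≠ x :=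
    hp.exists_fixed_point_of_prime_dvd_card_of_fixed_point _
      (by rw [Nat.card_eq_fintype_card, Fintype.card_fun, ZMod.card]; decide) hzero
  let W : AddSubgroup (V ((Fin 2 ⊕ Fin 2) ⊕ Fin 2)) :=
    { carrier := {w | ∀ n : ↥N, act n.1 w = w}
      zero_mem' := fun _ => Matrix.mulVec_zero _
      add_mem' := fun {a b} ha hb n => by rw [act_add, ha n, hb n]
      neg_mem' := fun {a} ha n => by
        show act n.1 (-a) = -a
        rw [act, Matrix.mulVec_neg]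
        exact congrArg Neg.neg (ha n) }
  have hW : ∀ g : ↥G6, ∀ w ∈ W, act g w ∈ W := fun g w hw n => by
    have h := hw ⟨g⁻¹ * n.1 * g, by simpa using hN.conj_mem n.1 n.2 g⁻¹⟩
    rw [act_mul, act_mul] at h
    calc act n.1 (act g w) = act g (act g⁻¹ (act n.1 (act g w))) := (act_inv g _).symm
      _ = _ := by rw [h]
  rw [eq_bot_iff]
  intro n hn
  rw [Subgroup.mem_bot]
  refine act_ext fun y => ?_
  rw [act_one]
  exact invariant_top W (x := x) hx (Ne.symm hne) hW y ⟨n, hn⟩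

theorem pCore_two : Cfsg.pCore 2 ↥G6 = ⊥ :=
  eq_bot_iff.2 (sSup_le fun N hN => le_of_eq (@normal_two_eq_bot N hN.1 hN.2))

theorem pCore_comap {C : Type*} [Group C] [Finite C] (f : C →* ↥G6) (hf : Function.Surjective f)
    (hk : IsPGroup 2 ↥f.ker) : Cfsg.pCore 2 C = f.ker := by
  refine le_antisymm (sSup_le fun N hN => ?_) (le_sSup ⟨inferInstance, hk⟩)
  have h := @normal_two_eq_bot (N.map f) (hN.1.map f hf) (hN.2.map f)
  exact (Subgroup.map_eq_bot_iff N).1 h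

end Cfsg.Agent.Lib.FischerOuter91
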